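import Groth.Agent.ResProp.EF.K309.SubColim

/-!
# The directed system `F ↦ F ⊗ -` of endofunctors, `F` the finitely generated subcomodules ([DIR], last step)

`TwSys c us`: endofunctors `tw F` (`F : SubC c`) and `twO` of a category `CE` over `ModuleCat A`, with the maps of inclusions
and `us (tw F M) ≅ us M ⊗ F`, `us (twO M) ≅ us M ⊗ V`.  `TwSys.W : SubC c ⥤ CE ⥤ CE`, `TwSys.l : W ⟶ const twO` and
`TwSys.hl`: `twO M` is the colimit of the `tw F M` for every `M`.
-/

set_option autoImplicit false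
set_option linter.unusedSectionVars false

open TensorProduct CategoryTheory CategoryTheory.Limits

noncomputable section

namespace Groth.Agent.ResProp.EF.K755

open K309

universe u v w

variable {k : Type u} [CommRing k] [IsNoetherianRing k] {O : Type u} [AddCommGroup O] [Module k O] [Coalgebra k O]
  [Module.Flat k O] {V : Type u} [AddCommGroup V] [Module k V] (c : HopfRep.Comod k O V)
  {A : Type u} [CommRing A] (kap : k →+* A) {CE : Type w} [Category.{v} CE] (us : CE ⥤ ModuleCat.{u} A)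

/-- `X ⊗[k] W` for an `A`-module `X`, the `k`-structure of `X` along `kap` -/
@[reducible] def tenO (X : Type u) [AddCommGroup X] [Module A X] (W : Type u) [AddCommGroup W] [Module k W] :
    ModuleCat.{u} A :=
  letI := kap.toAlgebra
  letI : Module k X := Module.compHom X kap
  haveI : IsScalarTower k A X := ⟨fun r a x => by rw [Algebra.smul_def, mul_smul]; rfl⟩
  ModuleCat.of A (X ⊗[k] W)

/-- `X ⊗ f` -/
@[reducible] def tenM (X : Type u) [AddCommGroup X] [Module A X] {W W' : Type u} [AddCommGroup W] [Module k W]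
    [AddCommGroup W'] [Module k W'] (f : W →ₗ[k] W') : tenO kap X W ⟶ tenO kap X W' :=
  letI := kap.toAlgebra
  letI : Module k X := Module.compHom X kap
  haveI : IsScalarTower k A X := ⟨fun r a x => by rw [Algebra.smul_def, mul_smul]; rfl⟩
  ModuleCat.ofHom (SubC.mT A X f)

/-- the endofunctors `F ⊗ -` -/
structure TwSys where
  /-- `F ⊗ -` -/
  tw : SubC c → CE ⥤ CE
  /-- `V ⊗ -` -/
  twO : CE ⥤ CE
  /-- the map of an inclusion -/
  tmap : ∀ {F G : SubC c}, F.1 ≤ G.1 → (tw F ⟶ tw G)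
  tmap_refl : ∀ F : SubC c, tmap (le_refl F.1) = 𝟙 (tw F)
  tmap_trans : ∀ {F G H : SubC c} (h : F.1 ≤ G.1) (h' : G.1 ≤ H.1), tmap (h.trans h') = tmap h ≫ tmap h'
  /-- the map of `F ⊆ V` -/
  tO : ∀ F : SubC c, tw F ⟶ twO
  tmap_tO : ∀ {F G : SubC c} (h : F.1 ≤ G.1), tmap h ≫ tO G = tO F
  /-- the comparison -/
  e : ∀ (M : CE) (F : SubC c), us.obj ((tw F).obj M) ≅ tenO kap (us.obj M) F.1
  eO : ∀ M : CE, us.obj (twO.obj M) ≅ tenO kap (us.obj M) V
  e_nat : ∀ (M : CE) {F G : SubC c} (h : F.1 ≤ G.1),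
    us.map ((tmap h).app M) ≫ (e M G).hom = (e M F).hom ≫ tenM kap (us.obj M) (Submodule.inclusion h)
  eO_nat : ∀ (M : CE) (F : SubC c),
    us.map ((tO F).app M) ≫ (eO M).hom = (e M F).hom ≫ tenM kap (us.obj M) F.1.subtype

namespace TwSys

variable {c kap us} (T : TwSys c kap us)

/-- the system `F ↦ F ⊗ -` -/
@[simps]
def W : SubC c ⥤ CE ⥤ CE where
  obj := T.tw
  map φ := T.tmap (leOfHom φ)
  map_id F := T.tmap_refl F
  map_comp φ ψ := T.tmap_trans (leOfHom φ) (leOfHom ψ)

/-- the cocone to `V ⊗ -` -/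
@[simps]
def l : T.W ⟶ (Functor.const (SubC c)).obj T.twO where
  app F := T.tO F
  naturality F G φ := by
    change T.tmap (leOfHom φ) ≫ T.tO G = T.tO F ≫ 𝟙 T.twO
    rw [Category.comp_id]
    exact T.tmap_tO (leOfHom φ)

/-- **`V ⊗ M` is the colimit of the `F ⊗ M`** -/
def hl [us.ReflectsIsomorphisms] [HasColimitsOfShape (SubC c) CE] [PreservesColimitsOfShape (SubC c) us] (M : CE) :
    IsColimit (((evaluation CE CE).obj M).mapCocone (Cocone.mk T.twO T.l)) :=
  letI := kap.toAlgebra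
  letI : Module k (us.obj M) := Module.compHom (us.obj M) kap
  haveI : IsScalarTower k A (us.obj M) := ⟨fun r a x => by rw [Algebra.smul_def, mul_smul]; rfl⟩
  SubC.isColimitOver (c := c) (A := A) (X := us.obj M) us _
    (NatIso.ofComponents (fun F => T.e M F) fun {F G} φ => T.e_nat M (leOfHom φ)) (T.eO M) fun F => T.eO_nat M F

end TwSys

end Groth.Agent.ResProp.EF.K755
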