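import Groth.Agent.ResProp.EF.K755.DirLv
import Groth.Agent.ResProp.EF.K118.TwC
import Groth.Agent.ResProp.EF.K742.GOInst
import Groth.Agent.ResProp.EF.K741.ComodAb

/-!
# (I5): the instance of `TwSys` on `(GO s B).Coalgebra`

`twSys s B c : TwSys c κ₀ (usB s B)` for a comodule `c` over the bialgebra `B`: `tw F = K118.TwC.tw s F.co`,
`twO = K118.TwC.tw s c`; `(twSys s B c).W`, `.l`, and `hlB` : `Nonempty` of the colimit property.
-/

set_option autoImplicit false
set_option linter.dupNamespace false
set_option linter.unusedSectionVars false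

open CategoryTheory CategoryTheory.Limits Opposite TensorProduct

noncomputable section

namespace Groth.Agent.ResProp.EF.K755

open K784.BC K784.PM K741.RP EF56 K742 K309 K118.TwC

universe u

section tensMap

variable {k : Type u} [CommRing k] {A : NFᵒᵖ ⥤ CommRingCat.{u}} (s : KS k A)

theorem tensMap_id (W : Type u) [AddCommGroup W] [Module k W] :
    tensMap s (LinearMap.id : W →ₗ[k] W) = 𝟙 (tensC s W) := by
  apply NatTrans.ext
  funext M
  exact ((tensC s W).map_id M)

theorem tensMap_comp {W W' W'' : Type u} [AddCommGroup W] [Module k W] [AddCommGroup W'] [Module k W']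
    [AddCommGroup W''] [Module k W''] (g : W →ₗ[k] W') (g' : W' →ₗ[k] W'') :
    tensMap s (g' ∘ₗ g) = tensMap s g ≫ tensMap s g' := by
  apply NatTrans.ext
  funext M
  apply ObjectProperty.hom_ext
  refine tens_ext s fun X m w => ?_
  refine (tensPmap_tm s (𝟙 M.obj) (g' ∘ₗ g) X m w).trans ?_
  refine Eq.symm ((congrArg (lv (tensPmap s (𝟙 M.obj) g') X) (tensPmap_tm s (𝟙 M.obj) g X m w)).trans ?_)
  exact tensPmap_tm s (𝟙 M.obj) g' X _ _

end tensMap

variable {k : Type u} [CommRing k] [IsNoetherianRing k] {A : NFᵒᵖ ⥤ CommRingCat.{u}} (s : KS k A)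
  (B : Type u) [CommRing B] [Bialgebra k B] [Module.Flat k B]
  {V : Type u} [AddCommGroup V] [Module k V] (c : HopfRep.Comod k B V)

/-- the chart functor of `(GO s B).Coalgebra` -/
abbrev usB : (GO s B).Coalgebra ⥤ ModuleCat.{u} (A.obj (op ⟨0⟩)) := (GO s B).forget ⋙ vst A

theorem subtype_co (F : SubC c) (v : F.1) : c.coact (F.1.subtype v) = F.1.subtype.rTensor B (F.co.coact v) :=
  LinearMap.congr_fun F.subtype_hom v

theorem inclusion_co {F G : SubC c} (h : F.1 ≤ G.1) (v : F.1) :
    G.co.coact (Submodule.inclusion h v) = (Submodule.inclusion h).rTensor B (F.co.coact v) :=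
  LinearMap.congr_fun (SubC.inclusion_hom h) v

/-- **(I5)** -/
def twSys : TwSys c (s.κ (op ⟨0⟩)) (usB s B) where
  tw F := tw s F.co
  twO := tw s c
  tmap {F G} h := twMap s F.co G.co (Submodule.inclusion h) (inclusion_co B c h)
  tmap_refl F := by
    apply NatTrans.ext
    funext M
    apply Comonad.Coalgebra.Hom.ext
    exact congrArg (fun t => t.app M.A) (tensMap_id s F.1)
  tmap_trans {F G H} h h' := by
    apply NatTrans.ext
    funext M
    apply Comonad.Coalgebra.Hom.ext
    exact congrArg (fun t => t.app M.A) (tensMap_comp s (Submodule.inclusion h) (Submodule.inclusion h'))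
  tO F := twMap s F.co c F.1.subtype (subtype_co B c F)
  tmap_tO {F G} h := by
    apply NatTrans.ext
    funext M
    apply Comonad.Coalgebra.Hom.ext
    exact (congrArg (fun t => t.app M.A) (tensMap_comp s (Submodule.inclusion h) G.1.subtype)).symm
  e M F := eT s M.A F.1
  eO M := eT s M.A V
  e_nat M {F G} h := eT_nat s M.A (Submodule.inclusion h)
  eO_nat M F := eT_nat s M.A F.1.subtype

section inst

variable [hA : Fact (GR A)]

instance additive_tw {V : Type u} [AddCommGroup V] [Module k V] (c : HopfRep.Comod k B V) : (tw s c).Additive where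
  map_add {M N f g} := by
    apply Comonad.Coalgebra.Hom.ext
    exact (tensC s V).map_add

instance additive_W (F : SubC c) : ((twSys s B c).W.obj F).Additive := inferInstanceAs (tw s F.co).Additive

instance additive_twO : (twSys s B c).twO.Additive := inferInstanceAs (tw s c).Additive

instance reflectsIsomorphisms_usB : (usB s B).ReflectsIsomorphisms := inferInstance

/-- **(I5)**: `twO M` is the colimit of the `tw F M` -/
theorem hlB (M : (GO s B).Coalgebra) :
    Nonempty (IsColimit (((evaluation (GO s B).Coalgebra (GO s B).Coalgebra).obj M).mapCocone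
      (Cocone.mk (twSys s B c).twO (twSys s B c).l))) :=
  ⟨(twSys s B c).hl M⟩

end inst

end Groth.Agent.ResProp.EF.K755
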