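import Groth.Agent.ResProp.EF.K755.Dir
import Groth.Agent.ResProp.EF.K742.GO

/-!
# The chart of `M ⊗_k W` (level half of the instance of `TwSys`)
-/

set_option autoImplicit false
set_option linter.dupNamespace false
set_option linter.unusedSectionVars false

open CategoryTheory CategoryTheory.Limits Opposite TensorProduct

noncomputable section

namespace Groth.Agent.ResProp.EF.K755

open K784.BC K784.PM K741.RP EF56 K742 K309

universe u

variable {k : Type u} [CommRing k] {A : NFᵒᵖ ⥤ CommRingCat.{u}} (s : KS k A)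

/-- `us (M ⊗_k W) = us M ⊗_k W` -/
def eT (M : Comod A) (W : Type u) [AddCommGroup W] [Module k W] :
    (vst A).obj ((tensC s W).obj M) ≅ tenO (s.κ (op ⟨0⟩)) ((vst A).obj M) W :=
  Iso.refl (ModuleCat.of (A.obj (op ⟨0⟩)) (TM (s.κ (op ⟨0⟩)) ((vst A).obj M) W))

theorem eT_nat (M : Comod A) {W W' : Type u} [AddCommGroup W] [Module k W] [AddCommGroup W'] [Module k W']
    (g : W →ₗ[k] W') : (vst A).map ((tensMap s g).app M) ≫ (eT s M W').hom =
      (eT s M W).hom ≫ tenM (s.κ (op ⟨0⟩)) ((vst A).obj M) g := by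
  have h : (TM.map (s.κ (op ⟨0⟩)) (lv (𝟙 M.obj) (op ⟨0⟩)) g :
      TM (s.κ (op ⟨0⟩)) (M.obj.obj (op ⟨0⟩)) W →ₗ[A.obj (op ⟨0⟩)] TM (s.κ (op ⟨0⟩)) (M.obj.obj (op ⟨0⟩)) W') =
      (tenM (s.κ (op ⟨0⟩)) ((vst A).obj M) g).hom := by
    refine TM.linearMap_ext _ fun m w => ?_
    rw [TM.map_tm]
    rfl
  apply ModuleCat.hom_ext
  exact h

end Groth.Agent.ResProp.EF.K755
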